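import Groth.Prelude.Def_W4c2arithlefschetzNode
import Mathlib

/-!
The formal double point `B[[x, y]]/(xy - a)`: branches, primes, and lengths of quotients.
-/

set_option autoImplicit false

universe u

namespace Groth.NodeRing

open MvPowerSeries

noncomputable section

variable {B : Type u} [CommRing B] (a : B)

local notation "N" => ArLef.NodeAlg B a

/-- The class of a variable. -/
abbrev v (i : Fin 2) : ArLef.NodeAlg B a := Ideal.Quotient.mk _ (MvPowerSeries.X i)

theorem algebraMap_eq (b : B) :
    algebraMap B (ArLef.NodeAlg B a) b = Ideal.Quotient.mk _ (MvPowerSeries.C b) := rfl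

theorem v_mul (i : Fin 2) : v a i * v a (i + 1) = algebraMap B N a := by
  have h : v a 0 * v a 1 = algebraMap B N a := by
    rw [algebraMap_eq, v, v, ← map_mul, Ideal.Quotient.eq]
    exact Ideal.mem_span_singleton_self _
  revert i
  rw [Fin.forall_fin_two]
  exact ⟨h, (mul_comm _ _).trans h⟩

theorem t_mul_e : ArLef.NodeAlg.t a * ArLef.NodeAlg.e a = algebraMap B N a := v_mul a 0

/-- The coefficients on the axis of the other variable, as a power series. -/
def res (i : Fin 2) : MvPowerSeries (Fin 2) B →+* PowerSeries B where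
  toFun f := PowerSeries.mk fun n => MvPowerSeries.coeff (Finsupp.single (i + 1) n) f
  map_one' := by
    ext n
    rw [PowerSeries.coeff_mk, MvPowerSeries.coeff_one, PowerSeries.coeff_one]
    simp
  map_zero' := by
    ext n
    simp
  map_add' f g := by
    ext n
    simp
  map_mul' f g := by
    classical
    ext n
    rw [PowerSeries.coeff_mk, PowerSeries.coeff_mul, MvPowerSeries.coeff_mul,
      Finsupp.antidiagonal_single, Finset.sum_map]
    exact Finset.sum_congr rfl fun p _ => by simp

@[simp] theorem coeff_res (i : Fin 2) (f : MvPowerSeries (Fin 2) B) (n : ℕ) :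
    PowerSeries.coeff n (res i f) = MvPowerSeries.coeff (Finsupp.single (i + 1) n) f := by
  simp [res]

theorem single_iff (i : Fin 2) {m : Fin 2 →₀ ℕ} :
    m i = 0 ↔ m = Finsupp.single (i + 1) (m (i + 1)) := by
  constructor
  · intro h
    ext j
    fin_cases i <;> fin_cases j <;> simp_all [Finsupp.single_apply]
  · intro h
    rw [h]
    fin_cases i <;> simp [Finsupp.single_apply]

theorem single_apply_self_ne (i : Fin 2) (n : ℕ) : Finsupp.single (i + 1) n i = 0 := by
  fin_cases i <;> simp [Finsupp.single_apply]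

theorem res_X_self (i : Fin 2) : res (B := B) i (MvPowerSeries.X i) = 0 := by
  classical
  ext n
  rw [coeff_res, MvPowerSeries.coeff_X, if_neg, map_zero]
  intro h
  have := DFunLike.congr_fun h i
  rw [single_apply_self_ne, Finsupp.single_eq_same] at this
  exact zero_ne_one this

theorem res_X_other (i : Fin 2) : res (B := B) i (MvPowerSeries.X (i + 1)) = PowerSeries.X := by
  classical
  ext n
  rw [coeff_res, MvPowerSeries.coeff_X, PowerSeries.coeff_X]
  by_cases h : n = 1
  · subst h; simp
  · rw [if_neg h, if_neg]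
    intro h'
    exact h (Finsupp.single_injective _ h')

theorem res_C (i : Fin 2) (b : B) : res i (MvPowerSeries.C b) = PowerSeries.C b := by
  classical
  ext n
  rw [coeff_res, MvPowerSeries.coeff_C, PowerSeries.coeff_C]
  simp

/-- The branch `v i = 0`, as a power series ring in the other variable. -/
def branch (i : Fin 2) : ArLef.NodeAlg B a →+* PowerSeries (B ⧸ Ideal.span {a}) :=
  Ideal.Quotient.lift _ ((PowerSeries.map (Ideal.Quotient.mk (Ideal.span {a}))).comp (res i)) (by
    suffices h : Ideal.span {(MvPowerSeries.X 0 * MvPowerSeries.X 1 - MvPowerSeries.C a :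
        MvPowerSeries (Fin 2) B)} ≤
        RingHom.ker ((PowerSeries.map (Ideal.Quotient.mk (Ideal.span {a}))).comp (res i)) from
      fun x hx => h hx
    rw [Ideal.span_le, Set.singleton_subset_iff, SetLike.mem_coe, RingHom.mem_ker,
      RingHom.comp_apply, map_sub, map_mul, res_C, map_sub, map_mul, PowerSeries.map_C,
      show Ideal.Quotient.mk (Ideal.span {a}) a = 0 from
        Ideal.Quotient.eq_zero_iff_mem.2 (Ideal.mem_span_singleton_self a), map_zero, sub_zero]
    fin_cases i
    · show PowerSeries.map _ (res 0 (MvPowerSeries.X 0)) * _ = 0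
      rw [res_X_self, map_zero, zero_mul]
    · show _ * PowerSeries.map _ (res 1 (MvPowerSeries.X 1)) = 0
      rw [res_X_self, map_zero, mul_zero])

@[simp] theorem branch_mk (i : Fin 2) (f : MvPowerSeries (Fin 2) B) :
    branch a i (Ideal.Quotient.mk _ f) =
      PowerSeries.map (Ideal.Quotient.mk (Ideal.span {a})) (res i f) := rfl

theorem branch_self (i : Fin 2) : branch a i (v a i) = 0 := by
  rw [v, branch_mk, res_X_self, map_zero]

theorem branch_other (i : Fin 2) : branch a i (v a (i + 1)) = PowerSeries.X := by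
  rw [v, branch_mk, res_X_other, PowerSeries.map_X]

theorem branch_algebraMap (i : Fin 2) (b : B) :
    branch a i (algebraMap B N b) = PowerSeries.C (Ideal.Quotient.mk _ b) := by
  rw [algebraMap_eq, branch_mk, res_C, PowerSeries.map_C]

theorem branch_surjective (i : Fin 2) : Function.Surjective (branch a i) := by
  intro g
  choose c hc using fun n => Ideal.Quotient.mk_surjective (PowerSeries.coeff n g)
  let f : MvPowerSeries (Fin 2) B := fun m => if m i = 0 then c (m (i + 1)) else 0
  refine ⟨Ideal.Quotient.mk _ f, PowerSeries.ext fun n => ?_⟩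
  rw [branch_mk, PowerSeries.coeff_map, coeff_res, MvPowerSeries.coeff_apply]
  simp only [f]
  rw [if_pos (single_apply_self_ne i n), Finsupp.single_eq_same, hc]

theorem ker_branch (i : Fin 2) : RingHom.ker (branch a i) = Ideal.span {v a i} := by
  classical
  refine le_antisymm (fun x hx => ?_) ?_
  · obtain ⟨f, rfl⟩ := Ideal.Quotient.mk_surjective x
    rw [RingHom.mem_ker, branch_mk] at hx
    have hc : ∀ m : Fin 2 →₀ ℕ, m i = 0 → a ∣ MvPowerSeries.coeff m f := fun m hm => by
      have := congrArg (PowerSeries.coeff (m (i + 1))) hx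
      rw [PowerSeries.coeff_map, coeff_res, map_zero, ← (single_iff i).1 hm,
        Ideal.Quotient.eq_zero_iff_dvd] at this
      exact this
    choose! c hc' using hc
    let g : MvPowerSeries (Fin 2) B := fun m => if m i = 0 then c m else 0
    obtain ⟨h, hh⟩ : MvPowerSeries.X i ∣ f - MvPowerSeries.C a * g := by
      rw [MvPowerSeries.X_dvd_iff]
      intro m hm
      rw [map_sub, MvPowerSeries.coeff_C_mul, MvPowerSeries.coeff_apply g]
      simp only [g]
      rw [if_pos hm, ← hc' m hm, sub_self]
    rw [Ideal.mem_span_singleton, show f = MvPowerSeries.X i * h + MvPowerSeries.C a * g by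
      rw [← hh, sub_add_cancel], map_add, map_mul, map_mul, ← algebraMap_eq, ← v_mul a i]
    exact dvd_add (dvd_mul_right _ _) ((dvd_mul_right _ _).mul_right _)
  · rw [Ideal.span_le, Set.singleton_subset_iff, SetLike.mem_coe, RingHom.mem_ker, branch_self]

theorem dvd_iff_branch (i : Fin 2) (x : N) : v a i ∣ x ↔ branch a i x = 0 := by
  rw [← RingHom.mem_ker, ker_branch, Ideal.mem_span_singleton]

theorem exists_decomp (x : N) :
    ∃ (b : B) (x₀ x₁ : N), x = algebraMap B N b + v a 0 * x₀ + v a 1 * x₁ := by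
  classical
  obtain ⟨f, rfl⟩ := Ideal.Quotient.mk_surjective x
  let g : MvPowerSeries (Fin 2) B := fun m => if m 0 = 0 then MvPowerSeries.coeff m f else 0
  obtain ⟨h₀, hh₀⟩ : MvPowerSeries.X 0 ∣ f - g := by
    rw [MvPowerSeries.X_dvd_iff]
    intro m hm
    rw [map_sub, MvPowerSeries.coeff_apply g]
    simp only [g]
    rw [if_pos hm, sub_self]
  obtain ⟨h₁, hh₁⟩ : MvPowerSeries.X 1 ∣ g - MvPowerSeries.C (MvPowerSeries.constantCoeff f) := by
    rw [MvPowerSeries.X_dvd_iff]
    intro m hm
    rw [map_sub, MvPowerSeries.coeff_apply g, MvPowerSeries.coeff_C]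
    simp only [g]
    by_cases h0 : m = 0
    · subst h0
      simp
    · rw [if_neg h0, if_neg, sub_zero]
      intro h
      exact h0 (by ext j; fin_cases j <;> assumption)
  refine ⟨MvPowerSeries.constantCoeff f, Ideal.Quotient.mk _ h₀, Ideal.Quotient.mk _ h₁, ?_⟩
  rw [algebraMap_eq, ← map_mul, ← map_mul, ← map_add, ← map_add, ← hh₀, ← hh₁]
  congr 1
  abel

instance [Nontrivial (B ⧸ Ideal.span {a})] : Nontrivial (ArLef.NodeAlg B a) :=
  RingHom.domain_nontrivial (branch a 0)

theorem v_ne_zero [Nontrivial (B ⧸ Ideal.span {a})] (i : Fin 2) : v a i ≠ 0 := fun h => by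
  have := branch_other a (i + 1)
  rw [show i + 1 + 1 = i by fin_cases i <;> rfl, h, map_zero] at this
  exact PowerSeries.X_ne_zero this.symm

theorem not_dvd_other [Nontrivial (B ⧸ Ideal.span {a})] (i : Fin 2) : ¬ v a i ∣ v a (i + 1) := by
  rw [dvd_iff_branch, branch_other]
  exact PowerSeries.X_ne_zero

theorem not_e_dvd_t [Nontrivial (B ⧸ Ideal.span {a})] :
    ¬ ArLef.NodeAlg.e a ∣ ArLef.NodeAlg.t a := not_dvd_other a 1

theorem not_t_dvd_e [Nontrivial (B ⧸ Ideal.span {a})] :
    ¬ ArLef.NodeAlg.t a ∣ ArLef.NodeAlg.e a := not_dvd_other a 0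

theorem prime_v [IsDomain (B ⧸ Ideal.span {a})] (i : Fin 2) : Prime (v a i) := by
  rw [← Ideal.span_singleton_prime (v_ne_zero a i), ← ker_branch]
  exact RingHom.ker_isPrime _

theorem eq_zero_of_v_mul [IsDomain B] (ha : a ≠ 0) (i : Fin 2) {x : N} (h : v a i * x = 0) :
    x = 0 := by
  obtain ⟨f, rfl⟩ := Ideal.Quotient.mk_surjective x
  rw [v, ← map_mul, Ideal.Quotient.eq_zero_iff_mem, Ideal.mem_span_singleton] at h
  obtain ⟨g, hg⟩ := h
  obtain ⟨g', rfl⟩ : MvPowerSeries.X i ∣ g := by
    rw [MvPowerSeries.X_dvd_iff]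
    intro m hm
    have hX : (MvPowerSeries.X i : MvPowerSeries (Fin 2) B) ∣ MvPowerSeries.C a * g := by
      have h1 : MvPowerSeries.C a * g =
          MvPowerSeries.X 0 * MvPowerSeries.X 1 * g - MvPowerSeries.X i * f := by
        rw [hg]; ring
      rw [h1]
      refine dvd_sub (dvd_mul_of_dvd_left ?_ _) (dvd_mul_right _ _)
      fin_cases i
      · exact dvd_mul_right _ _
      · exact dvd_mul_left _ _
    have := MvPowerSeries.X_dvd_iff.1 hX m hm
    rw [MvPowerSeries.coeff_C_mul] at this
    exact (mul_eq_zero.1 this).resolve_left ha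
  have hXne : (MvPowerSeries.X i : MvPowerSeries (Fin 2) B) ≠ 0 := fun h0 => by
    classical
    simpa using congrArg (MvPowerSeries.coeff (Finsupp.single i 1)) h0
  rw [Ideal.Quotient.eq_zero_iff_mem, Ideal.mem_span_singleton]
  refine ⟨g', mul_left_cancel₀ hXne ?_⟩
  rw [hg]
  ring

section loc

variable [IsLocalRing B] (hm : IsLocalRing.maximalIdeal B = Ideal.span {a})

include hm in
theorem nontrivial_quot : Nontrivial (B ⧸ Ideal.span {a}) := by
  rw [← hm]; infer_instance

include hm in
theorem isLocalRing : IsLocalRing N := by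
  have := nontrivial_quot a hm
  exact IsLocalRing.of_surjective' (Ideal.Quotient.mk _) Ideal.Quotient.mk_surjective

variable [IsLocalRing (ArLef.NodeAlg B a)]

include hm in
theorem maximalIdeal_eq :
    IsLocalRing.maximalIdeal N = Ideal.span {ArLef.NodeAlg.t a, ArLef.NodeAlg.e a} := by
  have := nontrivial_quot a hm
  refine le_antisymm (fun x hx => ?_) ?_
  · obtain ⟨b, x₀, x₁, rfl⟩ := exists_decomp a x
    have hv : ∀ i : Fin 2, v a i ∈ Ideal.span {ArLef.NodeAlg.t a, ArLef.NodeAlg.e a} :=
      Fin.forall_fin_two.2 ⟨Ideal.subset_span (by simp), Ideal.subset_span (by simp)⟩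
    refine add_mem (add_mem ?_ (Ideal.mul_mem_right _ _ (hv 0))) (Ideal.mul_mem_right _ _ (hv 1))
    by_cases hb : IsUnit b
    · exfalso
      refine hx ?_
      have hu := hb.map (algebraMap B N)
      by_contra hn
      refine (IsLocalRing.mem_maximalIdeal _).1 ?_ hu
      have hmax : ∀ i : Fin 2, v a i ∈ IsLocalRing.maximalIdeal N := fun i h => by
        have := h.map (branch a i)
        rw [branch_self] at this
        exact not_isUnit_zero this
      have := sub_mem (sub_mem ((IsLocalRing.mem_maximalIdeal _).2 hn)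
        (Ideal.mul_mem_right x₁ _ (hmax 1))) (Ideal.mul_mem_right x₀ _ (hmax 0))
      simpa using this
    · have : b ∈ Ideal.span {a} := hm ▸ (IsLocalRing.mem_maximalIdeal _).2 hb
      obtain ⟨c, rfl⟩ := Ideal.mem_span_singleton.1 this
      rw [map_mul, ← v_mul a 0]
      exact Ideal.mul_mem_right _ _ (Ideal.mul_mem_right _ _ (hv 0))
  · rw [Ideal.span_le, Set.insert_subset_iff, Set.singleton_subset_iff]
    constructor <;> intro h
    · have := h.map (branch a 0)
      rw [branch_self] at this
      exact not_isUnit_zero this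
    · have := h.map (branch a 1)
      rw [branch_self] at this
      exact not_isUnit_zero this

variable [IsNoetherianRing B]

include hm in
/-- Elements are powers of a branch parameter times elements not divisible by it. -/
theorem exists_pow_mul (i : Fin 2) {x : N} (hx : x ≠ 0) :
    ∃ (n : ℕ) (y : N), x = v a i ^ n * y ∧ ¬ v a i ∣ y := by
  classical
  have := nontrivial_quot a hm
  have hne : Ideal.span {v a i} ≠ (⊤ : Ideal N) := by
    rw [← ker_branch]
    exact RingHom.ker_ne_top _
  have h : ∃ n, ¬ v a i ^ (n + 1) ∣ x := by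
    by_contra hc
    push Not at hc
    refine hx ?_
    have hmem : x ∈ ⨅ n : ℕ, Ideal.span {v a i} ^ n := by
      refine (Submodule.mem_iInf _).2 fun n => ?_
      rw [Ideal.span_singleton_pow, Ideal.mem_span_singleton]
      exact (pow_dvd_pow _ n.le_succ).trans (hc n)
    rwa [Ideal.iInf_pow_eq_bot_of_isLocalRing _ hne, Submodule.mem_bot] at hmem
  have hdvd : v a i ^ Nat.find h ∣ x := by
    cases hn : Nat.find h with
    | zero => rw [pow_zero]; exact one_dvd x
    | succ n => exact not_not.1 (Nat.find_min h (hn ▸ n.lt_succ_self))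
  obtain ⟨y, hy⟩ := hdvd
  refine ⟨Nat.find h, y, hy, ?_⟩
  rintro ⟨z, rfl⟩
  exact Nat.find_spec h ⟨z, hy.trans (by ring)⟩

include hm in
theorem isDomain [IsDomain B] (ha : a ≠ 0) : IsDomain N := by
  have := nontrivial_quot a hm
  have : (Ideal.span {a}).IsPrime := hm ▸ (IsLocalRing.maximalIdeal.isMaximal B).isPrime
  have hcancel : ∀ (n : ℕ) (x : N), v a 0 ^ n * x = 0 → x = 0 := by
    intro n
    induction n with
    | zero => intro x h; simpa using h
    | succ n ih => intro x h; exact eq_zero_of_v_mul a ha 0 (ih _ (by rwa [pow_succ, mul_assoc] at h))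
  have : NoZeroDivisors N := ⟨fun {x y} h => by
    by_contra hc
    push Not at hc
    obtain ⟨n, x', rfl, hx'⟩ := exists_pow_mul a hm 0 hc.1
    obtain ⟨l, y', rfl, hy'⟩ := exists_pow_mul a hm 0 hc.2
    have h0 : x' * y' = 0 := hcancel (n + l) _ (by rw [← h]; ring)
    rcases (prime_v a 0).dvd_or_dvd (h0 ▸ dvd_zero _ : v a 0 ∣ x' * y') with h | h
    exacts [hx' h, hy' h]⟩
  exact NoZeroDivisors.to_isDomain _

include hm in
/-- Generators of the fixed-point ideal. -/
theorem fixIdeal_le (σ : N →+* N) {J : Ideal N}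
    (hJ : ∀ i, σ (v a i) - v a i ∈ J) (hB : ∀ b, σ (algebraMap B N b) - algebraMap B N b ∈ J) :
    ArLef.fixIdeal σ ≤ J := by
  refine Submodule.le_of_le_smul_of_le_jacobson_bot (IsNoetherian.noetherian _)
    (IsLocalRing.jacobson_eq_maximalIdeal ⊥ bot_ne_top).ge ?_
  refine Ideal.span_le.2 ?_
  rintro _ ⟨r, rfl⟩
  obtain ⟨b, x₀, x₁, rfl⟩ := exists_decomp a r
  have key : ∀ i x, σ (v a i * x) - v a i * x ∈
      J ⊔ IsLocalRing.maximalIdeal N • ArLef.fixIdeal σ := fun i x => by
    rw [show σ (v a i * x) - v a i * x = (σ (v a i) - v a i) * σ x + v a i * (σ x - x) by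
      rw [map_mul]; ring]
    refine Submodule.add_mem_sup (Ideal.mul_mem_right _ _ (hJ i)) (Submodule.smul_mem_smul ?_
      (Ideal.subset_span ⟨x, rfl⟩))
    intro h
    have := h.map (branch a i)
    rw [branch_self] at this
    have := nontrivial_quot a hm
    exact not_isUnit_zero ‹IsUnit (0 : PowerSeries (B ⧸ Ideal.span {a}))›
  show σ _ - _ ∈ J ⊔ _
  rw [map_add, map_add, show σ (algebraMap B N b) + σ (v a 0 * x₀) + σ (v a 1 * x₁) -
      (algebraMap B N b + v a 0 * x₀ + v a 1 * x₁) = (σ (algebraMap B N b) - algebraMap B N b) +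
        (σ (v a 0 * x₀) - v a 0 * x₀) + (σ (v a 1 * x₁) - v a 1 * x₁) by abel]
  exact add_mem (add_mem (Submodule.mem_sup_left (hB b)) (key 0 x₀)) (key 1 x₁)

omit [IsNoetherianRing B] in
include hm in
theorem length_t_e :
    Module.length N (N ⧸ Ideal.span {ArLef.NodeAlg.t a, ArLef.NodeAlg.e a}) = 1 := by
  rw [← maximalIdeal_eq a hm, Module.length_eq_one_iff, isSimpleModule_iff_isCoatom]
  exact (IsLocalRing.maximalIdeal.isMaximal N).out

end loc

end

end Groth.NodeRing
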