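import Groth.Agent.NodeRing.Basic
import Groth.Agent.S15315

/-!
Lengths of quotients by two elements, and the branch-preserving automorphisms of the double point.
-/

set_option autoImplicit false

universe u

namespace Groth.NodeRing

noncomputable section

section len

variable {A : Type u} [CommRing A]

/-- The length of the quotient by two elements. -/
abbrev len (x y : A) : ℕ∞ := Module.length A (A ⧸ Ideal.span ({x, y} : Set A))

theorem len_congr {x y x' y' : A}
    (h : Ideal.span ({x, y} : Set A) = Ideal.span ({x', y'} : Set A)) : len x y = len x' y' := by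
  rw [len, len, h]

theorem len_comm (x y : A) : len x y = len y x := len_congr (by rw [Set.pair_comm])

theorem len_unit {x : A} (hx : IsUnit x) (y : A) : len x y = 0 := by
  rw [len, Module.length_eq_zero_iff]
  refine Submodule.Quotient.subsingleton_iff.2 ?_
  exact Ideal.eq_top_of_isUnit_mem _ (Ideal.subset_span (Set.mem_insert x {y})) hx

/-- Unimodular changes of the second element. -/
theorem span_pair_add (x y c : A) {u : A} (hu : IsUnit u) :
    Ideal.span ({x, u * y + c * x} : Set A) = Ideal.span ({x, y} : Set A) := by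
  obtain ⟨u', hu'⟩ := hu.exists_left_inv
  refine le_antisymm (Ideal.span_le.2 ?_) (Ideal.span_le.2 ?_) <;>
    rw [Set.insert_subset_iff, Set.singleton_subset_iff, SetLike.mem_coe, SetLike.mem_coe,
      Ideal.mem_span_pair, Ideal.mem_span_pair]
  · exact ⟨⟨1, 0, by ring⟩, ⟨c, u, by ring⟩⟩
  · exact ⟨⟨1, 0, by ring⟩, ⟨-(u' * c), u', by linear_combination y * hu'⟩⟩

variable [IsNoetherianRing A]

theorem len_mul {p x y : A} (h : ∀ z, y ∣ p * z → y ∣ z) :
    len (p * x) y = len p y + len x y := by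
  have hr : IsSMulRegular (A ⧸ Ideal.span ({y} : Set A)) p := by
    rw [isSMulRegular_quotient_iff_mem_of_smul_mem]
    intro z hz
    rw [Ideal.mem_span_singleton] at hz ⊢
    exact h z hz
  have := Groth.Agent.S15315.result A p y (Ideal.span {x}) hr
  rwa [Ideal.span_singleton_mul_span_singleton, ← Ideal.span_insert, ← Ideal.span_insert] at this

variable [IsDomain A]

theorem dvd_of_dvd_prime_mul {p y : A} (hp : Prime p) (hy : ¬ p ∣ y) (z : A) (h : y ∣ p * z) :
    y ∣ z := by
  obtain ⟨w, hw⟩ := h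
  obtain ⟨w', rfl⟩ := (hp.dvd_or_dvd (a := y) (b := w) (hw ▸ dvd_mul_right p z)).resolve_left hy
  exact ⟨w', mul_left_cancel₀ hp.ne_zero (hw.trans (by ring))⟩

theorem len_prime_mul {p y : A} (hp : Prime p) (hy : ¬ p ∣ y) (x : A) :
    len (p * x) y = len p y + len x y :=
  len_mul (dvd_of_dvd_prime_mul hp hy)

theorem len_pow_mul {p y : A} (hp : Prime p) : ∀ (n : ℕ), (n = 0 ∨ ¬ p ∣ y) → ∀ x,
    len (p ^ n * x) y = n * len p y + len x y
  | 0, _, x => by simp
  | n + 1, h, x => by
    have hy := h.resolve_left (Nat.succ_ne_zero n)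
    rw [pow_succ', mul_assoc, len_prime_mul hp hy, len_pow_mul hp n (Or.inr hy) x, Nat.cast_succ,
      add_mul, one_mul, ← add_assoc, add_comm (len p y)]

theorem len_pow {p y : A} (hp : Prime p) (hy : ¬ p ∣ y) (n : ℕ) :
    len (p ^ n) y = n * len p y := by
  have := len_pow_mul hp n (Or.inr hy) 1
  rwa [mul_one, len_unit isUnit_one, add_zero] at this

end len

section node

variable {B : Type u} [CommRing B] [IsDomain B] [IsDiscreteValuationRing B] {π : B} (hπ : Irreducible π)

include hπ in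
theorem hmax : IsLocalRing.maximalIdeal B = Ideal.span {π} := hπ.maximalIdeal_eq

include hπ in
theorem isDomain_quot : IsDomain (B ⧸ Ideal.span {π}) := by
  have : (Ideal.span {π}).IsPrime := hmax hπ ▸ (IsLocalRing.maximalIdeal.isMaximal B).isPrime
  exact Ideal.Quotient.isDomain _

include hπ in
theorem node_isLocalRing : IsLocalRing (ArLef.NodeAlg B π) := isLocalRing π (hmax hπ)

include hπ in
theorem node_isDomain : IsDomain (ArLef.NodeAlg B π) :=
  have := node_isLocalRing hπ
  isDomain π (hmax hπ) hπ.ne_zero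

include hπ in
theorem prime_t : Prime (ArLef.NodeAlg.t π) :=
  have := isDomain_quot hπ
  prime_v π 0

include hπ in
theorem prime_e : Prime (ArLef.NodeAlg.e π) :=
  have := isDomain_quot hπ
  prime_v π 1

include hπ in
theorem not_t_dvd_e' : ¬ ArLef.NodeAlg.t π ∣ ArLef.NodeAlg.e π :=
  have := isDomain_quot hπ
  not_t_dvd_e π

include hπ in
theorem not_e_dvd_t' : ¬ ArLef.NodeAlg.e π ∣ ArLef.NodeAlg.t π :=
  have := isDomain_quot hπ
  not_e_dvd_t π

include hπ in
theorem len_t_e : len (ArLef.NodeAlg.t π) (ArLef.NodeAlg.e π) = 1 :=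
  have := node_isLocalRing hπ
  length_t_e π (hmax hπ)

include hπ in
theorem len_t_e_mul [IsDomain (ArLef.NodeAlg B π)] (b : ArLef.NodeAlg B π) :
    len (ArLef.NodeAlg.t π) (ArLef.NodeAlg.e π * b) = 1 + len (ArLef.NodeAlg.t π) b := by
  rw [len_comm, len_prime_mul (prime_e hπ) (not_e_dvd_t' hπ), len_comm, len_t_e hπ, len_comm b]

variable {j : ℕ} {γ : B} {σ : ArLef.NodeAlg B π ≃+* ArLef.NodeAlg B π}
  (hj : 1 ≤ j) (hγ : IsUnit γ)
  (hσB : ∀ b : B, σ (algebraMap B (ArLef.NodeAlg B π) b) - algebraMap B (ArLef.NodeAlg B π) b ∈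
    Ideal.span ({algebraMap B (ArLef.NodeAlg B π) (π ^ j)} : Set (ArLef.NodeAlg B π)))
  (hσπ : σ (algebraMap B (ArLef.NodeAlg B π) π) = algebraMap B (ArLef.NodeAlg B π) (π + γ * π ^ j))
  {α β : (ArLef.NodeAlg B π)ˣ}
  (ht : σ (ArLef.NodeAlg.t π) = (α : ArLef.NodeAlg B π) * ArLef.NodeAlg.t π)
  (he : σ (ArLef.NodeAlg.e π) = (β : ArLef.NodeAlg B π) * ArLef.NodeAlg.e π)

include hπ hj hσπ ht he in
theorem mul_sub_one : (α : ArLef.NodeAlg B π) * β - 1 =
    algebraMap B _ γ * (ArLef.NodeAlg.t π * ArLef.NodeAlg.e π) ^ (j - 1) := by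
  have := node_isDomain hπ
  obtain ⟨l, rfl⟩ : ∃ l, j = l + 1 := ⟨j - 1, by omega⟩
  rw [← t_mul_e π, map_mul σ, ht, he, map_add, map_mul, map_pow, ← t_mul_e π] at hσπ
  rw [Nat.add_sub_cancel]
  refine mul_right_cancel₀ (mul_ne_zero (prime_t hπ).ne_zero (prime_e hπ).ne_zero) ?_
  linear_combination hσπ

include hπ hj hγ hσB hσπ ht he in
theorem fixIdeal_eq : ArLef.fixIdeal σ = Ideal.span
    {((α : ArLef.NodeAlg B π) - 1) * ArLef.NodeAlg.t π,
      ((β : ArLef.NodeAlg B π) - 1) * ArLef.NodeAlg.e π} := by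
  have := node_isLocalRing hπ
  refine le_antisymm (fixIdeal_le π (hmax hπ) σ.toRingHom ?_ fun b => ?_) ?_
  · refine Fin.forall_fin_two.2 ⟨Ideal.subset_span (Or.inl ?_), Ideal.subset_span (Or.inr ?_)⟩
    · show σ (ArLef.NodeAlg.t π) - _ = _
      rw [ht]; ring
    · show σ (ArLef.NodeAlg.e π) - _ = _
      rw [he]; ring
  · refine Ideal.span_le.2 ?_ (hσB b)
    obtain ⟨γ', hγ'⟩ := (hγ.map (algebraMap B (ArLef.NodeAlg B π))).exists_left_inv
    obtain ⟨l, rfl⟩ : ∃ l, j = l + 1 := ⟨j - 1, by omega⟩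
    rw [Set.singleton_subset_iff, SetLike.mem_coe, Ideal.mem_span_pair]
    refine ⟨γ' * (β * ArLef.NodeAlg.e π), γ' * ArLef.NodeAlg.t π, ?_⟩
    rw [← t_mul_e π, map_mul σ, ht, he, map_add, map_mul, map_pow, ← t_mul_e π] at hσπ
    rw [map_pow, ← t_mul_e π]
    linear_combination γ' * hσπ + (ArLef.NodeAlg.t π * ArLef.NodeAlg.e π) ^ (l + 1) * hγ'
  · rw [Ideal.span_le, Set.insert_subset_iff, Set.singleton_subset_iff]
    constructor <;> refine Ideal.subset_span ?_
    · exact ⟨ArLef.NodeAlg.t π, by simp only [ht]; ring⟩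
    · exact ⟨ArLef.NodeAlg.e π, by simp only [he]; ring⟩

theorem colon_mul {A : Type u} [CommRing A] [IsDomain A] {c : A} (hc : c ≠ 0) (I : Ideal A) :
    (Ideal.span {c} * I).colon ({c} : Set A) = I := by
  ext x
  rw [Submodule.mem_colon_singleton, smul_eq_mul]
  constructor
  · intro h
    obtain ⟨z, hz, hzx⟩ := Ideal.mem_span_singleton_mul.1 h
    rw [mul_comm x] at hzx
    exact mul_left_cancel₀ hc hzx ▸ hz
  · intro h
    rw [mul_comm x]
    exact Ideal.mul_mem_mul (Ideal.mem_span_singleton_self c) h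

end node

end

end Groth.NodeRing
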