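import Groth.Agent.NodeRing.Length

/-!
Fixed ideals of automorphisms of `B[[t]]`.
-/

set_option autoImplicit false

universe u

namespace Groth.NodeRing

noncomputable section

variable {B : Type u} [CommRing B] [IsDomain B] [IsDiscreteValuationRing B] {π : B} (hπ : Irreducible π)

theorem C_eq (b : B) : algebraMap B (PowerSeries B) b = PowerSeries.C b := rfl

include hπ in
theorem ker_map_residue : RingHom.ker (PowerSeries.map (IsLocalRing.residue B)) =
    Ideal.span {(PowerSeries.C π : PowerSeries B)} := by
  refine le_antisymm (fun f hf => ?_) ?_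
  · have hc : ∀ n, π ∣ PowerSeries.coeff n f := fun n => by
      have := congrArg (PowerSeries.coeff n) hf
      rw [PowerSeries.coeff_map, map_zero, IsLocalRing.residue_eq_zero_iff, hmax hπ,
        Ideal.mem_span_singleton] at this
      exact this
    choose c hc' using hc
    rw [Ideal.mem_span_singleton]
    exact ⟨PowerSeries.mk c, PowerSeries.ext fun n => by
      rw [PowerSeries.coeff_C_mul, PowerSeries.coeff_mk, ← hc']⟩
  · rw [Ideal.span_le, Set.singleton_subset_iff, SetLike.mem_coe, RingHom.mem_ker,
      PowerSeries.map_C, (IsLocalRing.residue_eq_zero_iff π).2 (by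
        rw [hmax hπ]; exact Ideal.mem_span_singleton_self π), map_zero]

include hπ in
theorem prime_C : Prime (PowerSeries.C π : PowerSeries B) := by
  have hne : (PowerSeries.C π : PowerSeries B) ≠ 0 :=
    (map_ne_zero_iff _ PowerSeries.C_injective).2 hπ.ne_zero
  rw [← Ideal.span_singleton_prime hne, ← ker_map_residue hπ]
  exact RingHom.ker_isPrime _

include hπ in
/-- The length modulo the uniformizer, on the closed fibre. -/
theorem len_C_eq (f : PowerSeries B) :
    len (PowerSeries.C π) f = Module.length (PowerSeries (IsLocalRing.ResidueField B))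
      (PowerSeries (IsLocalRing.ResidueField B) ⧸
        Ideal.span ({PowerSeries.map (IsLocalRing.residue B) f} :
          Set (PowerSeries (IsLocalRing.ResidueField B)))) := by
  let φ := PowerSeries.map (IsLocalRing.residue B)
  have hφ : Function.Surjective φ :=
    PowerSeries.map_surjective _ IsLocalRing.residue_surjective
  letI : Algebra (PowerSeries B) (PowerSeries (IsLocalRing.ResidueField B)) := φ.toAlgebra
  rw [← Module.length_eq_of_surjective (S := PowerSeries B)
    (R := PowerSeries (IsLocalRing.ResidueField B)) hφ]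
  let ψ : PowerSeries B →ₗ[PowerSeries B] (PowerSeries (IsLocalRing.ResidueField B) ⧸
      Ideal.span ({φ f} : Set (PowerSeries (IsLocalRing.ResidueField B)))) :=
    (Ideal.Quotient.mkₐ (PowerSeries B) _).toLinearMap ∘ₗ Algebra.linearMap _ _
  have hψ : Function.Surjective ψ := Ideal.Quotient.mk_surjective.comp hφ
  have hker : LinearMap.ker ψ = Ideal.span {PowerSeries.C π, f} := by
    ext x
    show Ideal.Quotient.mk _ (φ x) = 0 ↔ _
    rw [Ideal.Quotient.eq_zero_iff_mem, Ideal.mem_span_singleton, Ideal.mem_span_pair]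
    constructor
    · rintro ⟨c, hc⟩
      obtain ⟨c, rfl⟩ := hφ c
      have h : x - f * c ∈ RingHom.ker φ := by
        rw [RingHom.mem_ker, map_sub, map_mul, hc, sub_self]
      rw [ker_map_residue hπ, Ideal.mem_span_singleton] at h
      obtain ⟨d, hd⟩ := h
      exact ⟨d, c, by linear_combination -hd⟩
    · rintro ⟨d, c, rfl⟩
      have : φ (PowerSeries.C π) = 0 :=
        (ker_map_residue hπ).ge (Ideal.mem_span_singleton_self _)
      exact ⟨φ c, by rw [map_add, map_mul, map_mul, this, mul_zero, zero_add, mul_comm]⟩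
  rw [len, ← hker]
  exact (ψ.quotKerEquivOfSurjective hψ).length_eq

variable {j : ℕ} {γ : B} {σ : PowerSeries B ≃+* PowerSeries B}
  (hγ : IsUnit γ)
  (hσB : ∀ b : B, σ (algebraMap B (PowerSeries B) b) - algebraMap B (PowerSeries B) b ∈
    Ideal.span ({algebraMap B (PowerSeries B) (π ^ j)} : Set (PowerSeries B)))
  (hσπ : σ (algebraMap B (PowerSeries B) π) = algebraMap B (PowerSeries B) (π + γ * π ^ j))

include hγ hσB hσπ in
theorem fixIdeal_smooth : ArLef.fixIdeal σ =
    Ideal.span {(PowerSeries.C π : PowerSeries B) ^ j, σ PowerSeries.X - PowerSeries.X} := by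
  refine le_antisymm ?_ ?_
  · refine Submodule.le_of_le_smul_of_le_jacobson_bot (IsNoetherian.noetherian _)
      (IsLocalRing.jacobson_eq_maximalIdeal ⊥ bot_ne_top).ge ?_
    refine Ideal.span_le.2 ?_
    rintro _ ⟨r, rfl⟩
    obtain ⟨q, hq⟩ : (PowerSeries.X : PowerSeries B) ∣ r - PowerSeries.C (PowerSeries.constantCoeff r) :=
      PowerSeries.X_dvd_iff.2 (by simp)
    rw [sub_eq_iff_eq_add] at hq
    show σ r - r ∈ _
    rw [hq, map_add, map_mul, show σ PowerSeries.X * σ q + σ (PowerSeries.C (PowerSeries.constantCoeff r))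
        - (PowerSeries.X * q + PowerSeries.C (PowerSeries.constantCoeff r)) =
        (σ PowerSeries.X - PowerSeries.X) * σ q + (σ (PowerSeries.C (PowerSeries.constantCoeff r)) -
          PowerSeries.C (PowerSeries.constantCoeff r)) + PowerSeries.X * (σ q - q) by ring]
    refine add_mem (Submodule.mem_sup_left (add_mem (Ideal.mul_mem_right _ _
      (Ideal.subset_span (by simp))) (Ideal.span_le.2 ?_ (hσB _))))
      (Submodule.mem_sup_right (Submodule.smul_mem_smul ?_ (Ideal.subset_span ⟨q, rfl⟩)))
    · rw [Set.singleton_subset_iff, map_pow]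
      exact Ideal.subset_span (by simp [C_eq])
    · intro h
      simpa using PowerSeries.isUnit_constantCoeff _ h
  · rw [Ideal.span_le, Set.insert_subset_iff, Set.singleton_subset_iff]
    refine ⟨?_, Ideal.subset_span ⟨PowerSeries.X, rfl⟩⟩
    obtain ⟨γ', hγ'⟩ := hγ.exists_left_inv
    have h := Ideal.mul_mem_left (ArLef.fixIdeal σ) (PowerSeries.C γ')
      (Ideal.subset_span ⟨algebraMap B (PowerSeries B) π, rfl⟩ :
        σ (algebraMap B (PowerSeries B) π) - algebraMap B (PowerSeries B) π ∈ ArLef.fixIdeal σ)
    rw [hσπ, C_eq, C_eq, ← map_sub, add_sub_cancel_left, ← map_mul, ← mul_assoc, hγ', one_mul,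
      map_pow] at h
    exact h

include hπ in
theorem len_C_pow (f : PowerSeries B) (hf : ¬ (PowerSeries.C π : PowerSeries B) ∣ f) (m : ℕ) :
    len ((PowerSeries.C π : PowerSeries B) ^ m) f = m * Module.length (PowerSeries (IsLocalRing.ResidueField B))
      (PowerSeries (IsLocalRing.ResidueField B) ⧸
        Ideal.span ({PowerSeries.map (IsLocalRing.residue B) f} :
          Set (PowerSeries (IsLocalRing.ResidueField B)))) := by
  rw [len_pow (prime_C hπ) hf, len_C_eq hπ]

end

end Groth.NodeRing
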